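import Mathlib
import Groth.Agent.LocalCrit.Flatness

/-!
Local criterion of flatness for ideally separated modules, along a filtration by ideals.
-/

universe u

open TensorProduct

namespace Groth.Agent.IdealSep12

open LocalCrit (KeepsInjective)

variable {A : Type u} [CommRing A] {M : Type u} [AddCommGroup M] [Module A M]

/-- If `M_q` is flat and `g` is injective, elements killed by `g ⊗ M` are killed outside `q`. -/
theorem exists_smul_eq_zero (q : Ideal A) [q.IsPrime]
    [Module.Flat (Localization.AtPrime q) (LocalizedModule q.primeCompl M)]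
    {N N' : Type u} [AddCommGroup N] [Module A N] [AddCommGroup N'] [Module A N']
    (g : N →ₗ[A] N') (hg : Function.Injective g) (z : N ⊗[A] M) (hz : g.rTensor M z = 0) :
    ∃ s : A, s ∉ q ∧ s • z = 0 := by
  haveI : Module.Flat A (LocalizedModule q.primeCompl M) :=
    Module.Flat.trans A (Localization.AtPrime q) _
  let ℓ := LocalizedModule.mkLinearMap q.primeCompl M
  have h1 : ℓ.lTensor N z = 0 := by
    apply Module.Flat.rTensor_preserves_injective_linearMap (M := LocalizedModule q.primeCompl M) g hg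
    rw [map_zero, ← LinearMap.comp_apply, LinearMap.rTensor_comp_lTensor,
      ← LinearMap.lTensor_comp_rTensor, LinearMap.comp_apply, hz, map_zero]
  have hc : ∀ y : N ⊗[A] M, AlgebraTensorModule.rTensor A N ℓ (TensorProduct.comm A N M y) =
      TensorProduct.comm A N _ (ℓ.lTensor N y) := by
    intro y
    induction y using TensorProduct.induction_on with
    | zero => simp
    | tmul a b => simp
    | add a b ha hb => simp only [map_add, ha, hb]
  have h2 : AlgebraTensorModule.rTensor A N ℓ (TensorProduct.comm A N M z) = 0 := by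
    rw [hc, h1, map_zero]
  obtain ⟨⟨s, hs⟩, hs'⟩ := (IsLocalizedModule.eq_zero_iff q.primeCompl _).1 h2
  refine ⟨s, hs, (TensorProduct.comm A N M).injective ?_⟩
  rw [map_smul, map_zero]
  exact hs'

/-- The map `K n / K (n+1) → A / K (n+1)`. -/
def iota (K : ℕ → Ideal A) (n : ℕ) :
    (↥(K n) ⧸ Submodule.comap (K n).subtype (K (n + 1))) →ₗ[A] A ⧸ K (n + 1) :=
  Submodule.mapQ _ _ (K n).subtype le_rfl

theorem iota_injective (K : ℕ → Ideal A) (n : ℕ) : Function.Injective (iota K n) := by
  rw [← LinearMap.ker_eq_bot]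
  simp [iota, Submodule.ker_mapQ]

theorem gr_torsion (J : Ideal A) (K : ℕ → Ideal A) (hJK : ∀ n, J * K n ≤ K (n + 1)) (n : ℕ) :
    Module.IsTorsionBySet A (↥(K n) ⧸ Submodule.comap (K n).subtype (K (n + 1))) J := by
  rintro y ⟨j, hj⟩
  obtain ⟨y, rfl⟩ := Submodule.mkQ_surjective _ y
  rw [← map_smul, Submodule.mkQ_apply, Submodule.Quotient.mk_eq_zero, Submodule.mem_comap]
  exact hJK n (Ideal.mul_mem_mul hj y.2)

/-- One step of the descent. -/
theorem descend_step (J : Ideal A) (hK : KeepsInjective J M) {N G G' : Type u} [AddCommGroup N]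
    [Module A N] [AddCommGroup G] [Module A G] [AddCommGroup G'] [Module A G'] (T : Submodule A N)
    (g : N →ₗ[A] G) (hker : LinearMap.ker g = T) (hG : Module.IsTorsionBySet A G J)
    (ι : G →ₗ[A] G') (hι : Function.Injective (ι.rTensor M)) (y : N ⊗[A] M)
    (hy : (ι ∘ₗ g).rTensor M y = 0) : ∃ z : T ⊗[A] M, T.subtype.rTensor M z = y := by
  let g' : (N ⧸ T) →ₗ[A] G := T.liftQ g hker.ge
  have hg : Function.Injective g' :=
    LinearMap.ker_eq_bot.1 (Submodule.ker_liftQ_eq_bot _ _ _ hker.le)
  have hT : Module.IsTorsionBySet A (N ⧸ T) J := fun w j =>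
    hg (by rw [map_smul, map_zero]; exact @hG (g' w) j)
  have h0 : T.mkQ.rTensor M y = 0 := by
    apply hK g' hT hG hg
    apply hι
    rw [map_zero, map_zero, ← LinearMap.comp_apply, ← LinearMap.comp_apply,
      ← LinearMap.rTensor_comp, ← LinearMap.rTensor_comp, LinearMap.comp_assoc,
      show g' ∘ₗ T.mkQ = g from Submodule.liftQ_mkQ _ _ _]
    exact hy
  exact (rTensor_exact M (LinearMap.exact_subtype_mkQ T) (Submodule.mkQ_surjective _) y).mp h0

/-- Flatness criterion along a filtration `K` of `A` cofinal with the `J`-adic one. -/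
theorem flat_of_filtration [IsNoetherianRing A] (J : Ideal A)
    (hsep : ∀ a : Ideal A, IsHausdorff J (↥a ⊗[A] M)) (hK : KeepsInjective J M)
    (K : ℕ → Ideal A) (hK0 : K 0 = ⊤) (hanti : ∀ n, K (n + 1) ≤ K n)
    (hJK : ∀ n, J * K n ≤ K (n + 1)) (hcof : ∀ N, ∃ n, K n ≤ J ^ N)
    (hgr : ∀ n, Function.Injective ((iota K n).rTensor M)) : Module.Flat A M := by
  rw [Module.Flat.iff_rTensor_injective']
  intro a
  rw [← LinearMap.ker_eq_bot, eq_bot_iff]
  intro x hx
  rw [LinearMap.mem_ker] at hx
  let S : ℕ → Submodule A a := fun n => Submodule.comap a.subtype (K n)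
  have step : ∀ n, ∃ y : S n ⊗[A] M, (S n).subtype.rTensor M y = x := by
    intro n
    induction n with
    | zero =>
      have hS : S 0 = ⊤ := by simp [S, hK0]
      exact LinearMap.rTensor_surjective M
        (fun z => ⟨⟨z, hS ▸ Submodule.mem_top⟩, rfl⟩) x
    | succ n ih =>
      obtain ⟨y, hy⟩ := ih
      let T : Submodule A (S n) := Submodule.comap (S n).subtype (S (n + 1))
      let f : S n →ₗ[A] K n := (a.subtype ∘ₗ (S n).subtype).codRestrict (K n) fun z => z.2
      have hker : LinearMap.ker ((Submodule.comap (K n).subtype (K (n + 1))).mkQ ∘ₗ f) = T := by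
        rw [LinearMap.ker_comp, Submodule.ker_mkQ]; rfl
      have hι : iota K n ∘ₗ ((Submodule.comap (K n).subtype (K (n + 1))).mkQ ∘ₗ f) =
          (K (n + 1)).mkQ ∘ₗ (a.subtype ∘ₗ (S n).subtype) := by
        ext z; rfl
      obtain ⟨z, hz⟩ := descend_step J hK T _ hker (gr_torsion J K hJK n) (iota K n) (hgr n) y (by
        rw [hι, LinearMap.rTensor_comp, LinearMap.rTensor_comp, LinearMap.comp_apply,
          LinearMap.comp_apply, hy, hx, map_zero])
      let e : T →ₗ[A] S (n + 1) := ((S n).subtype ∘ₗ T.subtype).codRestrict _ fun z => z.2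
      refine ⟨e.rTensor M z, ?_⟩
      rw [← hy, ← hz, ← LinearMap.comp_apply, ← LinearMap.comp_apply, ← LinearMap.rTensor_comp,
        ← LinearMap.rTensor_comp]
      rfl
  refine IsHausdorff.haus (hsep a) x fun N => ?_
  rw [SModEq.zero]
  obtain ⟨c, hc⟩ := Ideal.exists_pow_inf_eq_pow_smul J (a : Submodule A A)
  obtain ⟨n, hn⟩ := hcof (N + c)
  obtain ⟨y, hy⟩ := step n
  rw [← hy]
  clear hy hx
  induction y using TensorProduct.induction_on with
  | zero => simp
  | add y z hy hz => rw [map_add]; exact add_mem hy hz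
  | tmul j m =>
    rw [LinearMap.rTensor_tmul, Submodule.subtype_apply]
    have hj : ((j : a) : A) ∈ J ^ N • (J ^ c • ⊤ ⊓ a : Submodule A A) := by
      have := hc (N + c) (Nat.le_add_left c N)
      rw [Nat.add_sub_cancel] at this
      rw [← this]
      exact ⟨show ((j : a) : A) ∈ (J ^ (N + c) • ⊤ : Submodule A A) by
        rw [Ideal.smul_eq_mul, Ideal.mul_top]; exact hn j.2, (j : a).2⟩
    have key : ∀ w ∈ J ^ N • (J ^ c • ⊤ ⊓ a : Submodule A A), ∀ hw : w ∈ a,
        (⟨w, hw⟩ : a) ⊗ₜ[A] m ∈ (J ^ N • ⊤ : Submodule A (↥a ⊗[A] M)) := by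
      intro w hw
      induction hw using Submodule.smul_induction_on' with
      | smul r hr v hv =>
        intro hw'
        rw [show (⟨r • v, hw'⟩ : a) = r • (⟨v, hv.2⟩ : a) from rfl, ← smul_tmul']
        exact Submodule.smul_mem_smul hr Submodule.mem_top
      | add p hp q hq hp' hq' =>
        intro hw'
        have hpa : p ∈ a := Submodule.smul_le_right.trans inf_le_right hp
        have hqa : q ∈ a := Submodule.smul_le_right.trans inf_le_right hq
        rw [show (⟨p + q, hw'⟩ : a) = ⟨p, hpa⟩ + ⟨q, hqa⟩ from rfl, add_tmul]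
        exact add_mem (hp' hpa) (hq' hqa)
    exact key _ hj (j : a).2

end Groth.Agent.IdealSep12
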